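import Mathlib
import Groth.Prelude
import Groth.Agent.Lib.Helper3.SepPts2
import Groth.Agent.Lib.Helper15.AlgSpTop

set_option autoImplicit false
universe u
open CategoryTheory CategoryTheory.Limits AlgebraicGeometry Opposite

namespace Groth.Agent.Helper19.SepPtsSp

/-- The structure map `Spec κ(x) ⟶ Spec k` of a point of a `k`-scheme is `Spec` of the map `k → κ(x)`. -/
theorem spec_map_resMap (k : Type u) [Field k] (X : Scheme.{u}) [X.Over (Spec (CommRingCat.of k))]
    (x : X) :
    Spec.map (CommRingCat.ofHom (Curv2.resMap k X x)) =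
      X.fromSpecResidueField x ≫ (X ↘ Spec (CommRingCat.of k)) := by
  apply ext_of_isAffine
  rw [← cancel_mono (Scheme.ΓSpecIso _).hom, Scheme.ΓSpecIso_naturality]
  rw [Scheme.Hom.comp_appTop, Scheme.fromSpecResidueField, Scheme.Hom.comp_appTop,
    Scheme.fromSpecStalk_appTop]
  simp only [Category.assoc]
  rw [← cancel_epi (Scheme.ΓSpecIso _).inv]
  ext a
  simp [Curv2.resMap, Curv2.stalkMap, Coh.toGlobal]


/-- Changing the structure morphism of a field-valued point along an equality. -/
theorem exists_val_of_str_eq {S : Scheme.{u}} {F : AlgSp.Sp S} (p : AlgSp.FieldPt F)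
    (str' : Spec (CommRingCat.of p.K) ⟶ S) (h : str' = p.str) :
    ∃ v : F.obj.obj (op (Over.mk str')), (⟨p.K, str', v⟩ : AlgSp.FieldPt F) = p := by
  subst h
  exact ⟨p.val, rfl⟩

attribute [local instance] Curv2.resAlgebra in
/-- Points with finite separable residue field are dense in a smooth algebraic space over a
field. -/
theorem dense_sep_points (k : Type u) [Field k] (X : AlgSp.Space (Spec (CommRingCat.of k)))
    (p : X.obj ⟶ (AlgSp.yon (Spec (CommRingCat.of k))).obj (Over.mk (𝟙 _)))
    (hp : AlgSp.LocP @Smooth p) :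
    Dense {x : AlgSp.Points X.obj | ∃ (k' : Type u) (_ : Field k') (_ : Algebra k k'),
      Module.Finite k k' ∧ Algebra.IsSeparable k k' ∧
        ∃ v : X.obj.obj.obj (Opposite.op (Over.mk (Spec.map (CommRingCat.ofHom (algebraMap k k'))))),
          AlgSp.Points.mk ⟨k', Spec.map (CommRingCat.ofHom (algebraMap k k')), v⟩ = x} := by
  obtain ⟨U, a, hae, has⟩ := X.property.atlas
  letI : U.left.Over (Spec (CommRingCat.of k)) := ⟨U.hom⟩
  let h : U ⟶ Over.mk (𝟙 (Spec (CommRingCat.of k))) := Over.homMk U.hom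
  have hcomm : a ≫ p = (AlgSp.yon _).map h ≫ 𝟙 _ := by
    obtain ⟨h', hh'⟩ := (AlgSp.yon (Spec (CommRingCat.of k))).map_surjective (a ≫ p)
    have : h' = h := by
      apply Over.OverMorphism.ext
      have := Over.w h'
      simpa [h] using this
    rw [← hh', this, Category.comp_id]
  have hsm : Smooth U.hom := hp a (𝟙 _) h hae (AlgSp.repWith_id _ _) hcomm
  haveI : Smooth (U.left ↘ Spec (CommRingCat.of k)) := hsm
  have hD := Groth.Agent.Helper3.SepPts.main k U.left
  have hsurj : Function.Surjective (AlgSp.Points.ofPt a) :=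
    Groth.Agent.Helper15.surjective_ofPt a has
  have hdense := hsurj.denseRange.dense_image (AlgSp.Points.continuous_ofPt a) hD
  refine hdense.mono ?_
  rintro _ ⟨u, ⟨-, hfin, hsep⟩, rfl⟩
  refine ⟨U.left.residueField u, inferInstance, Curv2.resAlgebra k U.left u, hfin, hsep, ?_⟩
  have hstr : Spec.map (CommRingCat.ofHom (algebraMap k (U.left.residueField u))) =
      (AlgSp.FieldPt.ofPt a u).str := spec_map_resMap k U.left u
  obtain ⟨v, hv⟩ := exists_val_of_str_eq (AlgSp.FieldPt.ofPt a u) _ hstr
  refine ⟨v, ?_⟩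
  exact congrArg AlgSp.Points.mk hv

end Groth.Agent.Helper19.SepPtsSp
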